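import Mathlib
import Cfsg.Agent.Lib.Helper43.Witt

/-!
# Orders of isometry groups of quadratic forms over finite fields

`isoGroup Q` is the isometry group of a quadratic form, `isoCard Q` its order, `zeros Q` the number
of zeros of `Q`, `hypExt Q` the orthogonal sum of `Q` with a hyperbolic plane.  Main results:
`zeros_hypExt` and `isoCard_hypExt`
(`|O(Q ⊥ H)| = (zeros (Q ⊥ H) - 1) * |V| * |O(Q)|`, by Witt's lemma and orbit–stabiliser on
hyperbolic pairs).
-/

set_option autoImplicit false

namespace Cfsg.Agent.Lib.Helper43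

open Module

section Defs

variable {F : Type*} [Field F] {V : Type*} [AddCommGroup V] [Module F V]

/-- The isometry group of a quadratic form, inside the group of linear automorphisms. -/
def isoGroup (Q : QuadraticForm F V) : Subgroup (V ≃ₗ[F] V) where
  carrier := {g | ∀ v, Q (g v) = Q v}
  mul_mem' := by
    intro a b ha hb v
    show Q (a (b v)) = Q v
    rw [ha, hb]
  one_mem' := fun v => rfl
  inv_mem' := by
    intro a ha v
    show Q (a.symm v) = Q v
    rw [← ha (a.symm v), a.apply_symm_apply]

theorem mem_isoGroup (Q : QuadraticForm F V) (g : V ≃ₗ[F] V) :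
    g ∈ isoGroup Q ↔ ∀ v, Q (g v) = Q v := Iff.rfl

/-- The order of the isometry group. -/
noncomputable def isoCard (Q : QuadraticForm F V) : ℕ := Nat.card (isoGroup Q)

/-- The number of zeros of a quadratic form. -/
noncomputable def zeros (Q : QuadraticForm F V) : ℕ := Nat.card {v : V // Q v = 0}

variable {V' : Type*} [AddCommGroup V'] [Module F V']

theorem isoCard_congr (Q : QuadraticForm F V) (Q' : QuadraticForm F V') (φ : V' ≃ₗ[F] V)
    (h : ∀ w, Q' w = Q (φ w)) : isoCard Q' = isoCard Q := by
  have h' : ∀ v, Q v = Q' (φ.symm v) := fun v => by rw [h, φ.apply_symm_apply]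
  refine Nat.card_congr
    { toFun := fun g => ⟨(φ.symm.trans g.1).trans φ, fun v => ?_⟩
      invFun := fun g => ⟨(φ.trans g.1).trans φ.symm, fun w => ?_⟩
      left_inv := fun g => ?_
      right_inv := fun g => ?_ }
  · show Q (φ (g.1 (φ.symm v))) = Q v
    rw [← h, g.2, ← h']
  · show Q' (φ.symm (g.1 (φ w))) = Q' w
    rw [← h', g.2, ← h]
  · apply Subtype.ext
    apply LinearEquiv.ext
    intro w
    show φ.symm (φ (g.1 (φ.symm (φ w)))) = g.1 w
    rw [φ.symm_apply_apply, φ.symm_apply_apply]
  · apply Subtype.ext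
    apply LinearEquiv.ext
    intro v
    show φ (φ.symm (g.1 (φ (φ.symm v)))) = g.1 v
    rw [φ.apply_symm_apply, φ.apply_symm_apply]

theorem zeros_congr (Q : QuadraticForm F V) (Q' : QuadraticForm F V') (φ : V' ≃ₗ[F] V)
    (h : ∀ w, Q' w = Q (φ w)) : zeros Q' = zeros Q := by
  refine Nat.card_congr (φ.toEquiv.subtypeEquiv fun w => ?_)
  show Q' w = 0 ↔ Q (φ w) = 0
  rw [h]

/-- Nondegeneracy of the polar form from left separation. -/
theorem nondeg_of_left (Q : QuadraticForm F V)
    (h : ∀ v, (∀ w, QuadraticMap.polar Q v w = 0) → v = 0) :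
    (QuadraticMap.polarBilin Q).Nondegenerate := by
  refine ⟨fun v hv => h v hv, fun v hv => h v fun w => ?_⟩
  rw [QuadraticMap.polar_comm]
  exact hv w

theorem nondeg_congr (Q : QuadraticForm F V) (Q' : QuadraticForm F V') (φ : V' ≃ₗ[F] V)
    (h : ∀ w, Q' w = Q (φ w)) (hQ : (QuadraticMap.polarBilin Q).Nondegenerate) :
    (QuadraticMap.polarBilin Q').Nondegenerate := by
  apply nondeg_of_left
  intro v hv
  have h1 : φ v = 0 := by
    apply hQ.1
    intro w
    have h2 := hv (φ.symm w)
    rw [QuadraticMap.polar, h, h, h, map_add, φ.apply_symm_apply] at h2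
    exact h2
  exact φ.injective (h1.trans (map_zero φ).symm)

/-- Isometries preserve the polar form. -/
theorem polar_map (Q : QuadraticForm F V) (g : V ≃ₗ[F] V) (hg : ∀ v, Q (g v) = Q v) (a b : V) :
    QuadraticMap.polar Q (g a) (g b) = QuadraticMap.polar Q a b := by
  rw [QuadraticMap.polar, QuadraticMap.polar, ← map_add, hg, hg, hg]

/-- The value of a quadratic form on a sum. -/
theorem quad_add (Q : QuadraticForm F V) (a b : V) :
    Q (a + b) = Q a + Q b + QuadraticMap.polar Q a b := by
  rw [QuadraticMap.polar]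
  ring

/-- Witt's lemma for a quadratic form, in the form used below. -/
theorem witt_quad [FiniteDimensional F V] (Q : QuadraticForm F V)
    (hQ : (QuadraticMap.polarBilin Q).Nondegenerate) (U : Submodule F V) (f : U →ₗ[F] V)
    (hinj : Function.Injective f) (hf : ∀ u : U, Q (f u) = Q u) :
    ∃ g : V ≃ₗ[F] V, (∀ v, Q (g v) = Q v) ∧ ∀ u : U, g u = f u := by
  obtain ⟨g, -, hgq, hg⟩ := (WittData.ofQuad Q hQ).witt_aux (finrank F U) U f rfl hinj
    (by
      intro u u'
      show QuadraticMap.polar Q (f u) (f u') = QuadraticMap.polar Q (u : V) (u' : V)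
      have h1 := hf (u + u')
      rw [map_add, Submodule.coe_add] at h1
      rw [QuadraticMap.polar, QuadraticMap.polar, h1, hf u, hf u'])
    hf
  exact ⟨g, hgq, hg⟩

end Defs

section Hyp

variable {F : Type*} [Field F] {V : Type*} [AddCommGroup V] [Module F V]

/-- The orthogonal sum with a hyperbolic plane. -/
noncomputable def hypExt (Q : QuadraticForm F V) : QuadraticForm F (V × F × F) :=
  Q.comp (LinearMap.fst F V (F × F)) +
    QuadraticMap.linMulLin ((LinearMap.fst F F F).comp (LinearMap.snd F V (F × F)))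
      ((LinearMap.snd F F F).comp (LinearMap.snd F V (F × F)))

theorem hypExt_apply (Q : QuadraticForm F V) (w : V × F × F) :
    hypExt Q w = Q w.1 + w.2.1 * w.2.2 := rfl

theorem polar_hypExt (Q : QuadraticForm F V) (w w' : V × F × F) :
    QuadraticMap.polar (hypExt Q) w w'
      = QuadraticMap.polar Q w.1 w'.1 + w.2.1 * w'.2.2 + w'.2.1 * w.2.2 := by
  rw [QuadraticMap.polar, QuadraticMap.polar, hypExt_apply, hypExt_apply, hypExt_apply]
  simp only [Prod.fst_add, Prod.snd_add]
  ring

theorem nondeg_hypExt (Q : QuadraticForm F V) (hQ : (QuadraticMap.polarBilin Q).Nondegenerate) :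
    (QuadraticMap.polarBilin (hypExt Q)).Nondegenerate := by
  apply nondeg_of_left
  rintro ⟨v, x, y⟩ hw
  have hv : v = 0 := by
    apply hQ.1
    intro v'
    have := hw (v', 0, 0)
    rw [polar_hypExt] at this
    simpa using this
  have hx : x = 0 := by
    have := hw (0, 0, 1)
    rw [polar_hypExt] at this
    simpa using this
  have hy : y = 0 := by
    have := hw (0, 1, 0)
    rw [polar_hypExt] at this
    simpa using this
  rw [hv, hx, hy]
  rfl

end Hyp

section Count

variable {F : Type*} [Field F] [Fintype F] {V : Type*} [AddCommGroup V] [Module F V] [Fintype V]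

open Classical in
omit [Fintype F] in
theorem zeros_eq_card_filter (Q : QuadraticForm F V) :
    zeros Q = (Finset.univ.filter (fun v : V => Q v = 0)).card := by
  rw [zeros, Nat.card_eq_fintype_card, Fintype.card_subtype]

open Classical in
theorem sum_ite_mul_eq (c x : F) :
    (∑ y : F, if c + x * y = 0 then 1 else 0)
      = if x = 0 then (if c = 0 then Fintype.card F else 0) else 1 := by
  by_cases hx : x = 0
  · rw [if_pos hx, hx]
    simp only [zero_mul, add_zero]
    by_cases hc : c = 0
    · simp [hc]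
    · simp [hc]
  · rw [if_neg hx]
    have h1 : ∀ y : F, (c + x * y = 0) ↔ y = -c / x := by
      intro y
      rw [eq_div_iff hx]
      constructor
      · intro h
        linear_combination h
      · intro h
        linear_combination h
    simp only [h1]
    rw [Finset.sum_ite_eq']
    simp

open Classical in
theorem sum_ite_zero_eq (A : ℕ) :
    (∑ x : F, if x = 0 then A else 1) = A + (Fintype.card F - 1) := by
  rw [← Finset.add_sum_erase Finset.univ _ (Finset.mem_univ (0 : F)), if_pos rfl]
  congr 1
  rw [Finset.sum_congr rfl (fun x hx => if_neg (Finset.ne_of_mem_erase hx)), Finset.sum_const,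
    Finset.card_erase_of_mem (Finset.mem_univ _), Finset.card_univ, smul_eq_mul, mul_one]

open Classical in
/-- The number of zeros of the orthogonal sum with a hyperbolic plane. -/
theorem zeros_hypExt (Q : QuadraticForm F V) :
    zeros (hypExt Q)
      = Fintype.card F * zeros Q + (Fintype.card F - 1) * Fintype.card V := by
  have h0 : zeros (hypExt Q)
      = (Finset.univ.filter (fun w : V × F × F => Q w.1 + w.2.1 * w.2.2 = 0)).card := by
    rw [zeros]
    show Nat.card {w : V × F × F // Q w.1 + w.2.1 * w.2.2 = 0} = _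
    rw [Nat.card_eq_fintype_card, Fintype.card_subtype]
  rw [h0, zeros_eq_card_filter, Finset.card_filter, Fintype.sum_prod_type]
  simp only [Fintype.sum_prod_type, sum_ite_mul_eq, sum_ite_zero_eq]
  rw [Finset.sum_add_distrib, Finset.sum_const, Finset.card_univ, smul_eq_mul,
    Finset.card_filter, Finset.mul_sum, mul_comm (Fintype.card V)]
  congr 1
  refine Finset.sum_congr rfl fun v _ => ?_
  by_cases hv : Q v = 0
  · simp [hv]
  · simp [hv]

end Count

section HypPair

variable {F : Type*} [Field F] {W : Type*} [AddCommGroup W] [Module F W]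

/-- The value of a quadratic form on the span of a hyperbolic pair. -/
theorem hyp_val (Q : QuadraticForm F W) (e f : W) (he : Q e = 0) (hf : Q f = 0)
    (hef : QuadraticMap.polar Q e f = 1) (c d : F) : Q (c • e + d • f) = c * d := by
  rw [quad_add, QuadraticMap.map_smul, QuadraticMap.map_smul, he, hf,
    QuadraticMap.polar_smul_left, QuadraticMap.polar_smul_right, hef]
  simp

theorem polar_self_zero (Q : QuadraticForm F W) (e : W) (he : Q e = 0) :
    QuadraticMap.polar Q e e = 0 := by
  rw [QuadraticMap.polar_self, he, smul_zero]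

/-- The isometry group is transitive on hyperbolic pairs. -/
theorem exists_iso_hyp_pair [FiniteDimensional F W] (Q : QuadraticForm F W)
    (hQ : (QuadraticMap.polarBilin Q).Nondegenerate) (e f e' f' : W)
    (he : Q e = 0) (hf : Q f = 0) (hef : QuadraticMap.polar Q e f = 1)
    (he' : Q e' = 0) (hf' : Q f' = 0) (hef' : QuadraticMap.polar Q e' f' = 1) :
    ∃ g : W ≃ₗ[F] W, (∀ v, Q (g v) = Q v) ∧ g e = e' ∧ g f = f' := by
  let L : W →ₗ[F] W := (QuadraticMap.polarBilin Q f).smulRight e'
    + (QuadraticMap.polarBilin Q e).smulRight f'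
  have hL : ∀ v, L v = QuadraticMap.polar Q f v • e' + QuadraticMap.polar Q e v • f' :=
    fun v => rfl
  have hfe : QuadraticMap.polar Q f e = 1 := by rw [QuadraticMap.polar_comm]; exact hef
  have hLcd : ∀ c d : F, L (c • e + d • f) = c • e' + d • f' := by
    intro c d
    rw [hL, QuadraticMap.polar_add_right, QuadraticMap.polar_add_right,
      QuadraticMap.polar_smul_right, QuadraticMap.polar_smul_right,
      QuadraticMap.polar_smul_right, QuadraticMap.polar_smul_right, hfe, hef,
      polar_self_zero Q e he, polar_self_zero Q f hf]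
    simp
  have hinj : Function.Injective (L ∘ₗ (Submodule.span F {e, f}).subtype) := by
    rw [injective_iff_map_eq_zero]
    intro u hu
    obtain ⟨c, d, hcd⟩ := Submodule.mem_span_pair.mp u.2
    have h1 : c • e' + d • f' = 0 := by
      rw [← hLcd, hcd]
      exact hu
    have hd : d = 0 := by
      have := congrArg (QuadraticMap.polar Q e') h1
      rw [QuadraticMap.polar_add_right, QuadraticMap.polar_smul_right,
        QuadraticMap.polar_smul_right, hef', polar_self_zero Q e' he',
        QuadraticMap.polar_zero_right] at this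
      simpa using this
    have hc : c = 0 := by
      have : QuadraticMap.polar Q (c • e' + d • f') f' = QuadraticMap.polar Q 0 f' := by
        rw [h1]
      rw [QuadraticMap.polar_add_left, QuadraticMap.polar_smul_left,
        QuadraticMap.polar_smul_left, hef', polar_self_zero Q f' hf',
        QuadraticMap.polar_zero_left] at this
      simpa using this
    apply Subtype.ext
    rw [← hcd, hc, hd]
    simp
  obtain ⟨g, hgQ, hg⟩ := witt_quad Q hQ (Submodule.span F {e, f})
    (L ∘ₗ (Submodule.span F {e, f}).subtype) hinj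
    (by
      intro u
      obtain ⟨c, d, hcd⟩ := Submodule.mem_span_pair.mp u.2
      show Q (L (u : W)) = Q (u : W)
      rw [← hcd, hLcd, hyp_val Q e f he hf hef, hyp_val Q e' f' he' hf' hef'])
  refine ⟨g, hgQ, ?_, ?_⟩
  · have h1 := hg ⟨e, Submodule.subset_span (by simp)⟩
    have h2 := hLcd 1 0
    simp only [one_smul, zero_smul, add_zero] at h2
    rw [← h2]
    exact h1
  · have h1 := hg ⟨f, Submodule.subset_span (by simp)⟩
    have h2 := hLcd 0 1
    simp only [one_smul, zero_smul, zero_add] at h2
    rw [← h2]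
    exact h1

end HypPair

section PairCount

variable {F : Type*} [Field F] [Fintype F] {W : Type*} [AddCommGroup W] [Module F W] [Fintype W]

omit [Fintype F] [Fintype W] in
theorem partner_aux (Q : QuadraticForm F W) (e : W) (he : Q e = 0) (a : W)
    (ha : QuadraticMap.polar Q e a = 1) (t : F) :
    Q (a + t • e) = Q a + t ∧ QuadraticMap.polar Q e (a + t • e) = 1 := by
  constructor
  · rw [quad_add, QuadraticMap.map_smul, he, QuadraticMap.polar_smul_right,
      QuadraticMap.polar_comm, ha]
    simp
  · rw [QuadraticMap.polar_add_right, QuadraticMap.polar_smul_right, polar_self_zero Q e he, ha]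
    simp

/-- The singular vectors pairing to one with a given nonzero singular vector. -/
theorem card_hyp_partner (Q : QuadraticForm F W) (hQ : (QuadraticMap.polarBilin Q).Nondegenerate)
    (e : W) (he : Q e = 0) (he0 : e ≠ 0) :
    Nat.card {f : W // Q f = 0 ∧ QuadraticMap.polar Q e f = 1}
      * (Fintype.card F * Fintype.card F) = Fintype.card W := by
  obtain ⟨f₀, hf₀⟩ : ∃ f₀, QuadraticMap.polar Q e f₀ = 1 := by
    obtain ⟨x, hx⟩ : ∃ x, QuadraticMap.polar Q e x ≠ 0 := by
      by_contra h
      push Not at h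
      exact he0 (hQ.1 e h)
    refine ⟨(QuadraticMap.polar Q e x)⁻¹ • x, ?_⟩
    rw [QuadraticMap.polar_smul_right, smul_eq_mul, inv_mul_cancel₀ hx]
  have hA : ∀ w : W, QuadraticMap.polar Q e (w - (QuadraticMap.polar Q e w - 1) • f₀) = 1 := by
    intro w
    rw [QuadraticMap.polar_sub_right, QuadraticMap.polar_smul_right, hf₀]
    simp
  have hS : ∀ a : W, QuadraticMap.polar Q e a = 1 →
      Q (a - Q a • e) = 0 ∧ QuadraticMap.polar Q e (a - Q a • e) = 1 := by
    intro a ha
    have := partner_aux Q e he a ha (-(Q a))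
    rw [neg_smul, ← sub_eq_add_neg] at this
    refine ⟨?_, this.2⟩
    rw [this.1]
    ring
  have key : Nat.card ({f : W // Q f = 0 ∧ QuadraticMap.polar Q e f = 1} × F × F)
      = Nat.card W := by
    refine Nat.card_congr
      { toFun := fun x => x.1.1 + x.2.1 • e + (x.2.2 - 1) • f₀
        invFun := fun w =>
          (⟨(w - (QuadraticMap.polar Q e w - 1) • f₀)
              - Q (w - (QuadraticMap.polar Q e w - 1) • f₀) • e, hS _ (hA w)⟩,
            Q (w - (QuadraticMap.polar Q e w - 1) • f₀), QuadraticMap.polar Q e w)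
        left_inv := ?_
        right_inv := ?_ }
    · rintro ⟨⟨s, hs0, hs1⟩, t, c⟩
      have h1 := partner_aux Q e he s hs1 t
      have h2 : QuadraticMap.polar Q e (s + t • e + (c - 1) • f₀) = c := by
        rw [QuadraticMap.polar_add_right, h1.2, QuadraticMap.polar_smul_right, hf₀]
        simp
      have h3 : s + t • e + (c - 1) • f₀ - (c - 1) • f₀ = s + t • e := by abel
      have h4 : Q (s + t • e) = t := by rw [h1.1, hs0, zero_add]
      refine Prod.ext (Subtype.ext ?_) (Prod.ext ?_ ?_)
      · show s + t • e + (c - 1) • f₀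
            - (QuadraticMap.polar Q e (s + t • e + (c - 1) • f₀) - 1) • f₀
            - Q (s + t • e + (c - 1) • f₀
              - (QuadraticMap.polar Q e (s + t • e + (c - 1) • f₀) - 1) • f₀) • e = s
        rw [h2, h3, h4]
        abel
      · show Q (s + t • e + (c - 1) • f₀
              - (QuadraticMap.polar Q e (s + t • e + (c - 1) • f₀) - 1) • f₀) = t
        rw [h2, h3, h4]
      · exact h2
    · intro w
      simp only
      abel
  rw [← Nat.card_eq_fintype_card (α := W), ← key, Nat.card_prod, Nat.card_prod,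
    Nat.card_eq_fintype_card (α := F)]

open Classical in
/-- The number of hyperbolic pairs. -/
theorem card_hypPairs (Q : QuadraticForm F W) (hQ : (QuadraticMap.polarBilin Q).Nondegenerate) :
    Nat.card {p : W × W // Q p.1 = 0 ∧ Q p.2 = 0 ∧ QuadraticMap.polar Q p.1 p.2 = 1}
      * (Fintype.card F * Fintype.card F) = (zeros Q - 1) * Fintype.card W := by
  have h1 : Nat.card {p : W × W // Q p.1 = 0 ∧ Q p.2 = 0 ∧ QuadraticMap.polar Q p.1 p.2 = 1}
      = Nat.card (Σ e : {e : W // Q e = 0 ∧ e ≠ 0},
          {f : W // Q f = 0 ∧ QuadraticMap.polar Q e.1 f = 1}) := by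
    refine Nat.card_congr
      { toFun := fun p => ⟨⟨p.1.1, p.2.1, ?_⟩, ⟨p.1.2, p.2.2.1, p.2.2.2⟩⟩
        invFun := fun x => ⟨(x.1.1, x.2.1), x.1.2.1, x.2.2.1, x.2.2.2⟩
        left_inv := fun p => rfl
        right_inv := fun x => rfl }
    intro h0
    have := p.2.2.2
    rw [h0, QuadraticMap.polar_zero_left] at this
    exact zero_ne_one this
  have h2 : Fintype.card {e : W // Q e = 0 ∧ e ≠ 0} = zeros Q - 1 := by
    rw [Fintype.card_subtype, zeros_eq_card_filter]
    have : (Finset.univ.filter (fun e : W => Q e = 0 ∧ e ≠ 0))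
        = (Finset.univ.filter (fun e : W => Q e = 0)).erase 0 := by
      ext x
      simp [and_comm]
    rw [this, Finset.card_erase_of_mem]
    simp
  rw [h1, Nat.card_sigma, Finset.sum_mul,
    Finset.sum_congr rfl (fun e _ => card_hyp_partner Q hQ e.1 e.2.1 e.2.2), Finset.sum_const,
    Finset.card_univ, h2, smul_eq_mul]

end PairCount

section Main

variable {F : Type*} [Field F] [Fintype F] {V : Type*} [AddCommGroup V] [Module F V] [Fintype V]

omit [Fintype F] [Fintype V] in
/-- The stabiliser of the standard hyperbolic pair is the isometry group of the complement. -/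
theorem card_stabilizer_hyp [FiniteDimensional F V] (Q : QuadraticForm F V)
    (hQ : (QuadraticMap.polarBilin Q).Nondegenerate) :
    Nat.card (MulAction.stabilizer (isoGroup (hypExt Q))
      (((0, 1, 0), (0, 0, 1)) : (V × F × F) × (V × F × F))) = isoCard Q := by
  symm
  let Ψ : isoGroup Q → MulAction.stabilizer (isoGroup (hypExt Q))
      (((0, 1, 0), (0, 0, 1)) : (V × F × F) × (V × F × F)) := fun g =>
    ⟨⟨g.1.prodCongr (LinearEquiv.refl F (F × F)), fun w => by
        show hypExt Q (g.1 w.1, w.2) = hypExt Q w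
        rw [hypExt_apply, hypExt_apply, g.2]⟩, by
      rw [MulAction.mem_stabilizer_iff]
      show ((g.1 0, ((1 : F), (0 : F))), (g.1 0, ((0 : F), (1 : F)))) = _
      rw [map_zero]⟩
  have hΨ : ∀ (g : isoGroup Q) (w : V × F × F), ((Ψ g).1.1 : (V × F × F) ≃ₗ[F] (V × F × F)) w
      = (g.1 w.1, w.2) := fun g w => rfl
  refine Nat.card_eq_of_bijective Ψ ⟨?_, ?_⟩
  · intro g h hgh
    apply Subtype.ext
    apply LinearEquiv.ext
    intro v
    have h1 := hΨ g (v, 0, 0)
    rw [hgh, hΨ h] at h1
    exact (congrArg Prod.fst h1).symm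
  · rintro ⟨⟨g, hg⟩, hstab⟩
    have hg' : ∀ w, hypExt Q (g w) = hypExt Q w := hg
    rw [MulAction.mem_stabilizer_iff] at hstab
    have hstab' : ((g (0, 1, 0), g (0, 0, 1)) : (V × F × F) × (V × F × F))
        = ((0, 1, 0), (0, 0, 1)) := hstab
    have hge : g (0, 1, 0) = (0, 1, 0) := congrArg Prod.fst hstab'
    have hgf : g (0, 0, 1) = (0, 0, 1) := congrArg Prod.snd hstab'
    have h22 : ∀ v : V, (g (v, 0, 0)).2.2 = 0 := by
      intro v
      have h1 := polar_map (hypExt Q) g hg' (v, 0, 0) (0, 1, 0)
      rw [hge, polar_hypExt, polar_hypExt] at h1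
      simpa using h1
    have h21 : ∀ v : V, (g (v, 0, 0)).2.1 = 0 := by
      intro v
      have h1 := polar_map (hypExt Q) g hg' (v, 0, 0) (0, 0, 1)
      rw [hgf, polar_hypExt, polar_hypExt] at h1
      simpa using h1
    let ℓ : V →ₗ[F] V := (LinearMap.fst F V (F × F)) ∘ₗ (g : (V × F × F) →ₗ[F] (V × F × F))
      ∘ₗ (LinearMap.inl F V (F × F))
    have hℓ : ∀ v, ℓ v = (g (v, 0, 0)).1 := fun v => rfl
    have hgv : ∀ v, g (v, 0, 0) = (ℓ v, 0, 0) := by
      intro v
      refine Prod.ext (hℓ v).symm (Prod.ext (h21 v) (h22 v))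
    have hℓQ : ∀ v, Q (ℓ v) = Q v := by
      intro v
      have h1 := hg' (v, 0, 0)
      rw [hgv, hypExt_apply, hypExt_apply] at h1
      simpa using h1
    have hℓinj : Function.Injective ℓ := by
      rw [injective_iff_map_eq_zero]
      intro v hv
      apply hQ.1
      intro w
      have h1 : QuadraticMap.polar Q (ℓ v) (ℓ w) = QuadraticMap.polar Q v w := by
        rw [QuadraticMap.polar, QuadraticMap.polar, ← map_add, hℓQ, hℓQ, hℓQ]
      rw [hv, QuadraticMap.polar_zero_left] at h1
      exact h1.symm
    refine ⟨⟨LinearEquiv.ofInjectiveEndo ℓ hℓinj, hℓQ⟩, ?_⟩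
    apply Subtype.ext
    apply Subtype.ext
    apply LinearEquiv.ext
    rintro ⟨v, x, y⟩
    rw [hΨ]
    show (ℓ v, x, y) = g (v, x, y)
    have h1 : ((v, x, y) : V × F × F) = (v, 0, 0) + x • (0, 1, 0) + y • (0, 0, 1) := by
      simp
    rw [h1, map_add, map_add, map_smul, map_smul, hgv, hge, hgf]
    simp

omit [Fintype F] [Fintype V] in
/-- The orbit of the standard hyperbolic pair is the set of all hyperbolic pairs. -/
theorem orbit_hyp [FiniteDimensional F V] (Q : QuadraticForm F V)
    (hQ : (QuadraticMap.polarBilin Q).Nondegenerate) :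
    MulAction.orbit (isoGroup (hypExt Q))
      (((0, 1, 0), (0, 0, 1)) : (V × F × F) × (V × F × F))
      = {p | hypExt Q p.1 = 0 ∧ hypExt Q p.2 = 0 ∧ QuadraticMap.polar (hypExt Q) p.1 p.2 = 1} := by
  have he : hypExt Q ((0, 1, 0) : V × F × F) = 0 := by rw [hypExt_apply]; simp
  have hf : hypExt Q ((0, 0, 1) : V × F × F) = 0 := by rw [hypExt_apply]; simp
  have hef : QuadraticMap.polar (hypExt Q) ((0, 1, 0) : V × F × F) (0, 0, 1) = 1 := by
    rw [polar_hypExt]; simp
  ext p
  constructor
  · rintro ⟨g, rfl⟩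
    have hg : ∀ w, hypExt Q (g.1 w) = hypExt Q w := g.2
    show hypExt Q (g.1 (0, 1, 0)) = 0 ∧ hypExt Q (g.1 (0, 0, 1)) = 0 ∧
      QuadraticMap.polar (hypExt Q) (g.1 (0, 1, 0)) (g.1 (0, 0, 1)) = 1
    rw [hg, hg, polar_map (hypExt Q) g.1 hg]
    exact ⟨he, hf, hef⟩
  · rintro ⟨h1, h2, h3⟩
    obtain ⟨g, hgQ, hge, hgf⟩ := exists_iso_hyp_pair (hypExt Q) (nondeg_hypExt Q hQ)
      (0, 1, 0) (0, 0, 1) p.1 p.2 he hf hef h1 h2 h3
    refine ⟨⟨g, hgQ⟩, ?_⟩
    show (g (0, 1, 0), g (0, 0, 1)) = p
    rw [hge, hgf]

/-- The order of the isometry group of the orthogonal sum with a hyperbolic plane. -/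
theorem isoCard_hypExt (Q : QuadraticForm F V)
    (hQ : (QuadraticMap.polarBilin Q).Nondegenerate) :
    isoCard (hypExt Q) = (zeros (hypExt Q) - 1) * Fintype.card V * isoCard Q := by
  have h1 : isoCard (hypExt Q)
      = Nat.card (MulAction.orbit (isoGroup (hypExt Q))
          (((0, 1, 0), (0, 0, 1)) : (V × F × F) × (V × F × F)))
        * Nat.card (MulAction.stabilizer (isoGroup (hypExt Q))
          (((0, 1, 0), (0, 0, 1)) : (V × F × F) × (V × F × F))) := by
    rw [← Nat.card_prod]
    exact (Nat.card_congr (MulAction.orbitProdStabilizerEquivGroup _ _)).symm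
  have h2 := card_hypPairs (hypExt Q) (nondeg_hypExt Q hQ)
  have h3 : Nat.card (MulAction.orbit (isoGroup (hypExt Q))
          (((0, 1, 0), (0, 0, 1)) : (V × F × F) × (V × F × F)))
      = Nat.card {p : (V × F × F) × (V × F × F) // hypExt Q p.1 = 0 ∧ hypExt Q p.2 = 0 ∧
          QuadraticMap.polar (hypExt Q) p.1 p.2 = 1} := by
    rw [orbit_hyp Q hQ]
    rfl
  have hq : 0 < Fintype.card F * Fintype.card F :=
    Nat.mul_pos Fintype.card_pos Fintype.card_pos
  have h4 : Nat.card (MulAction.orbit (isoGroup (hypExt Q))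
          (((0, 1, 0), (0, 0, 1)) : (V × F × F) × (V × F × F)))
      = (zeros (hypExt Q) - 1) * Fintype.card V := by
    apply Nat.eq_of_mul_eq_mul_right hq
    rw [h3, h2, Fintype.card_prod, Fintype.card_prod]
    ring
  rw [h1, h4, card_stabilizer_hyp Q hQ]

end Main

end Cfsg.Agent.Lib.Helper43
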