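import Mathlib
import Cfsg.Agent.Lib.Helper43.OrthCard

/-!
# Anisotropic planes over finite fields

Level sets of an anisotropic quadratic form with nondegenerate polar form on a plane over `F_q` have
`q + 1` elements (`card_level_aniso`), and the isometry group is transitive on each of them
(`exists_iso_map_vec`).
-/

set_option autoImplicit false

namespace Cfsg.Agent.Lib.Helper43

open Module

section Fiber

variable {F : Type*} [Field F] [Fintype F] {V : Type*} [AddCommGroup V] [Module F V] [Fintype V]

/-- All fibres of a nonzero linear functional have the same size. -/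
theorem card_fiber_functional (ℓ : Module.Dual F V) (hℓ : ℓ ≠ 0) (c : F) :
    Nat.card {w : V // ℓ w = c} * Fintype.card F = Fintype.card V := by
  obtain ⟨f₀, hf₀⟩ : ∃ f₀, ℓ f₀ = 1 := by
    obtain ⟨x, hx⟩ : ∃ x, ℓ x ≠ 0 := by
      by_contra h
      push Not at h
      exact hℓ (LinearMap.ext h)
    exact ⟨(ℓ x)⁻¹ • x, by rw [map_smul, smul_eq_mul, inv_mul_cancel₀ hx]⟩
  have key : Nat.card ({w : V // ℓ w = c} × F) = Nat.card V := by
    refine Nat.card_congr
      { toFun := fun x => x.1.1 + x.2 • f₀
        invFun := fun v => (⟨v - (ℓ v - c) • f₀, by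
          rw [map_sub, map_smul, hf₀, smul_eq_mul, mul_one, sub_sub_cancel]⟩, ℓ v - c)
        left_inv := ?_
        right_inv := ?_ }
    · rintro ⟨⟨w, hw⟩, t⟩
      have h1 : ℓ (w + t • f₀) - c = t := by
        rw [map_add, map_smul, hf₀, hw, smul_eq_mul, mul_one, add_sub_cancel_left]
      refine Prod.ext (Subtype.ext ?_) h1
      show w + t • f₀ - (ℓ (w + t • f₀) - c) • f₀ = w
      rw [h1, add_sub_cancel_right]
    · intro v
      show v - (ℓ v - c) • f₀ + (ℓ v - c) • f₀ = v
      rw [sub_add_cancel]
  rw [← Nat.card_eq_fintype_card (α := V), ← key, Nat.card_prod,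
    Nat.card_eq_fintype_card (α := F)]

open Classical in
omit [Fintype F] [Module F V] in
theorem sum_ite_zero_eq' (A B : ℕ) :
    (∑ x : V, if x = 0 then A else B) = A + (Fintype.card V - 1) * B := by
  rw [← Finset.add_sum_erase Finset.univ _ (Finset.mem_univ (0 : V)), if_pos rfl]
  congr 1
  rw [Finset.sum_congr rfl (fun x hx => if_neg (Finset.ne_of_mem_erase hx)), Finset.sum_const,
    Finset.card_erase_of_mem (Finset.mem_univ _), Finset.card_univ, smul_eq_mul]

open Classical in
/-- The number of pairs of vectors with the same value. -/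
theorem card_eq_pairs (Q : QuadraticForm F V) (hQ : (QuadraticMap.polarBilin Q).Nondegenerate) :
    (Finset.univ.filter (fun p : V × V => Q p.1 = Q p.2)).card * Fintype.card F
      = Fintype.card V * Fintype.card F + (Fintype.card V - 1) * Fintype.card V := by
  have h1 : (Finset.univ.filter (fun p : V × V => Q p.1 = Q p.2)).card
      = ∑ u : V, ∑ w : V, if Q (w + u) = Q w then 1 else 0 := by
    rw [Finset.card_filter,
      ← Fintype.sum_prod_type (f := fun p : V × V => if Q (p.2 + p.1) = Q p.2 then 1 else 0)]
    refine Fintype.sum_equiv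
      { toFun := fun p => (p.1 - p.2, p.2)
        invFun := fun p => (p.2 + p.1, p.2)
        left_inv := fun p => by simp
        right_inv := fun p => by simp } _ _ ?_
    intro p
    simp
  have h2 : ∀ u : V, (∑ w : V, if Q (w + u) = Q w then 1 else 0) * Fintype.card F
      = if u = 0 then Fintype.card V * Fintype.card F else Fintype.card V := by
    intro u
    by_cases hu : u = 0
    · rw [if_pos hu, hu]
      simp
    · rw [if_neg hu]
      have hℓ : QuadraticMap.polarBilin Q u ≠ 0 := by
        intro h0
        apply hu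
        apply hQ.1
        intro w
        rw [h0]
        rfl
      have h3 := card_fiber_functional (QuadraticMap.polarBilin Q u) hℓ (-(Q u))
      rw [← h3]
      congr 1
      rw [Nat.card_eq_fintype_card, Fintype.card_subtype, Finset.card_filter]
      refine Finset.sum_congr rfl fun w _ => ?_
      have h4 : (Q (w + u) = Q w) ↔ (QuadraticMap.polarBilin Q u w = -(Q u)) := by
        show _ ↔ QuadraticMap.polar Q u w = -(Q u)
        rw [quad_add, QuadraticMap.polar_comm]
        constructor
        · intro h
          linear_combination h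
        · intro h
          linear_combination h
      simp only [h4]
  rw [h1, Finset.sum_mul, Finset.sum_congr rfl (fun u _ => h2 u), sum_ite_zero_eq']

open Classical in
/-- Level sets of an anisotropic form on a plane. -/
theorem card_level_aniso (Q : QuadraticForm F V) (hQ : (QuadraticMap.polarBilin Q).Nondegenerate)
    (hV : Fintype.card V = Fintype.card F * Fintype.card F) (hZ : zeros Q = 1) (c : F)
    (hc : c ≠ 0) : (Finset.univ.filter (fun v : V => Q v = c)).card = Fintype.card F + 1 := by
  set q := Fintype.card F with hq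
  have hq1 : 1 ≤ q := Fintype.card_pos
  -- total
  have S1 : ∑ d : F, (Finset.univ.filter (fun v : V => Q v = d)).card = q * q := by
    rw [← hV, ← Finset.card_univ (α := V)]
    exact (Finset.card_eq_sum_card_fiberwise (fun _ _ => Finset.mem_univ _)).symm
  -- pairs
  have S2 : ∑ d : F, (Finset.univ.filter (fun v : V => Q v = d)).card
      * (Finset.univ.filter (fun v : V => Q v = d)).card
      = (Finset.univ.filter (fun p : V × V => Q p.1 = Q p.2)).card := by
    rw [Finset.card_eq_sum_card_fiberwise (f := fun p : V × V => Q p.1) (t := Finset.univ)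
      (fun _ _ => Finset.mem_univ _)]
    refine Finset.sum_congr rfl fun d _ => ?_
    rw [← Finset.card_product]
    congr 1
    ext ⟨z, w⟩
    simp only [Finset.mem_filter, Finset.mem_univ, true_and, Finset.mem_product]
    constructor
    · rintro ⟨h1, h2⟩
      exact ⟨by rw [h1, h2], h1⟩
    · rintro ⟨h1, h2⟩
      exact ⟨h2, by rw [← h1, h2]⟩
  have S3 := card_eq_pairs Q hQ
  rw [← S2, hV] at S3
  have S0 : (Finset.univ.filter (fun v : V => Q v = 0)).card = 1 := by
    rw [← zeros_eq_card_filter, hZ]
  -- the variance vanishes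
  have hq2 : 1 ≤ q * q := Nat.mul_pos hq1 hq1
  have S1' : ∑ d : F, ((Finset.univ.filter (fun v : V => Q v = d)).card : ℤ) = (q : ℤ) * q := by
    exact_mod_cast S1
  have S3' : (∑ d : F, ((Finset.univ.filter (fun v : V => Q v = d)).card : ℤ)
      * ((Finset.univ.filter (fun v : V => Q v = d)).card : ℤ)) * (q : ℤ)
      = (q : ℤ) * q * q + ((q : ℤ) * q - 1) * ((q : ℤ) * q) := by
    have := congrArg (fun n : ℕ => (n : ℤ)) S3
    push_cast [Nat.cast_sub hq2] at this
    exact this
  have hq0 : (q : ℤ) ≠ 0 := by exact_mod_cast (by omega : q ≠ 0)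
  have S3'' : (∑ d : F, ((Finset.univ.filter (fun v : V => Q v = d)).card : ℤ)
      * ((Finset.univ.filter (fun v : V => Q v = d)).card : ℤ))
      = (q : ℤ) * q + ((q : ℤ) * q - 1) * (q : ℤ) := by
    apply mul_right_cancel₀ hq0
    rw [S3']
    ring
  have hvar : ∑ d : F, (((Finset.univ.filter (fun v : V => Q v = d)).card : ℤ) - ((q : ℤ) + 1)) ^ 2
      = (q : ℤ) * q := by
    have : ∀ d : F, (((Finset.univ.filter (fun v : V => Q v = d)).card : ℤ) - ((q : ℤ) + 1)) ^ 2
        = ((Finset.univ.filter (fun v : V => Q v = d)).card : ℤ)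
            * ((Finset.univ.filter (fun v : V => Q v = d)).card : ℤ)
          - (2 * ((q : ℤ) + 1)) * ((Finset.univ.filter (fun v : V => Q v = d)).card : ℤ)
          + ((q : ℤ) + 1) ^ 2 := fun d => by ring
    rw [Finset.sum_congr rfl (fun d _ => this d), Finset.sum_add_distrib, Finset.sum_sub_distrib,
      ← Finset.mul_sum, S1', S3'', Finset.sum_const, Finset.card_univ, ← hq]
    simp only [nsmul_eq_mul]
    ring
  rw [← Finset.add_sum_erase Finset.univ _ (Finset.mem_univ (0 : F)), S0] at hvar
  have hvar' : ∑ d ∈ Finset.univ.erase (0 : F),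
      (((Finset.univ.filter (fun v : V => Q v = d)).card : ℤ) - ((q : ℤ) + 1)) ^ 2 = 0 := by
    have : (((1 : ℕ) : ℤ) - ((q : ℤ) + 1)) ^ 2 = (q : ℤ) * q := by push_cast; ring
    rw [this] at hvar
    linarith
  have hterm := (Finset.sum_eq_zero_iff_of_nonneg (fun d _ => sq_nonneg _)).mp hvar' c
    (Finset.mem_erase.mpr ⟨hc, Finset.mem_univ c⟩)
  have hfin : ((Finset.univ.filter (fun v : V => Q v = c)).card : ℤ) = (q : ℤ) + 1 := by
    have := pow_eq_zero_iff (two_ne_zero) |>.mp hterm
    linarith
  exact_mod_cast hfin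

end Fiber

section Trans

variable {F : Type*} [Field F] {V : Type*} [AddCommGroup V] [Module F V]

/-- The isometry group is transitive on each nonzero level set. -/
theorem exists_iso_map_vec [FiniteDimensional F V] (Q : QuadraticForm F V)
    (hQ : (QuadraticMap.polarBilin Q).Nondegenerate) (e u : V) (he : Q e ≠ 0) (hu : Q u = Q e) :
    ∃ g : V ≃ₗ[F] V, (∀ v, Q (g v) = Q v) ∧ g e = u := by
  have he0 : e ≠ 0 := by
    rintro rfl
    exact he (map_zero Q)
  have hu0 : u ≠ 0 := by
    rintro rfl
    rw [map_zero] at hu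
    exact he hu.symm
  obtain ⟨x, hx⟩ : ∃ x, QuadraticMap.polar Q e x ≠ 0 := by
    by_contra h
    push Not at h
    exact he0 (hQ.1 e h)
  have hx' : QuadraticMap.polar Q x e ≠ 0 := by rw [QuadraticMap.polar_comm]; exact hx
  let ℓ : Module.Dual F V := (QuadraticMap.polar Q x e)⁻¹ • QuadraticMap.polarBilin Q x
  have hℓe : ℓ e = 1 := by
    show (QuadraticMap.polar Q x e)⁻¹ * QuadraticMap.polar Q x e = 1
    exact inv_mul_cancel₀ hx'
  have hL : ∀ t : F, (ℓ.smulRight u) (t • e) = t • u := by
    intro t
    rw [LinearMap.smulRight_apply, map_smul, hℓe, smul_eq_mul, mul_one]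
  have hinj : Function.Injective ((ℓ.smulRight u) ∘ₗ (Submodule.span F {e}).subtype) := by
    rw [injective_iff_map_eq_zero]
    intro w hw
    obtain ⟨t, ht⟩ := Submodule.mem_span_singleton.mp w.2
    have h1 : t • u = 0 := by
      rw [← hL, ht]
      exact hw
    have ht0 : t = 0 := (smul_eq_zero.mp h1).resolve_right hu0
    apply Subtype.ext
    rw [← ht, ht0, zero_smul]
    rfl
  obtain ⟨g, hgQ, hg⟩ := witt_quad Q hQ (Submodule.span F {e})
    ((ℓ.smulRight u) ∘ₗ (Submodule.span F {e}).subtype) hinj
    (by
      intro w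
      obtain ⟨t, ht⟩ := Submodule.mem_span_singleton.mp w.2
      show Q ((ℓ.smulRight u) (w : V)) = Q (w : V)
      rw [← ht, hL, QuadraticMap.map_smul, QuadraticMap.map_smul, hu])
  refine ⟨g, hgQ, ?_⟩
  have h1 := hg ⟨e, Submodule.mem_span_singleton_self e⟩
  have h2 := hL 1
  rw [one_smul, one_smul] at h2
  rw [← h2]
  exact h1

end Trans

end Cfsg.Agent.Lib.Helper43
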