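import Mathlib
import Cfsg.Prelude.Def_Classical
import Cfsg.Agent.Lib.Helper43.OrthCard

/-!
# Towers of hyperbolic planes over a core form, and the matrix isometry groups

`qGen Q₀ m` is the form `Q₀ ⊥ H^m` on `κ ⊕ (Fin m ⊕ Fin m) → F`.  Recursions for its zeros and the
order of its isometry group, and the comparison of `Cfsg.isometryGroup` with `isoGroup`.
-/

set_option autoImplicit false

namespace Cfsg.Agent.Lib.Helper43

open Module

section Gen

variable {F : Type*} [Field F] {κ : Type*}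

/-- The form `Q₀ ⊥ H^m`. -/
noncomputable def qGen (Q₀ : QuadraticForm F (κ → F)) (m : ℕ) :
    QuadraticForm F (κ ⊕ (Fin m ⊕ Fin m) → F) :=
  Q₀.comp (LinearMap.funLeft F F Sum.inl) +
    ∑ i : Fin m, QuadraticMap.linMulLin (LinearMap.proj (Sum.inr (Sum.inl i)))
      (LinearMap.proj (Sum.inr (Sum.inr i)))

theorem qGen_apply (Q₀ : QuadraticForm F (κ → F)) (m : ℕ) (v : κ ⊕ (Fin m ⊕ Fin m) → F) :
    qGen Q₀ m v = Q₀ (fun k => v (Sum.inl k))
      + ∑ i : Fin m, v (Sum.inr (Sum.inl i)) * v (Sum.inr (Sum.inr i)) := by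
  rw [qGen, _root_.add_apply, _root_.sum_apply]
  rfl

/-- Splitting off the last hyperbolic plane. -/
def splitLast (F : Type*) [Field F] (κ : Type*) (m : ℕ) :
    (κ ⊕ (Fin (m + 1) ⊕ Fin (m + 1)) → F) ≃ₗ[F] (κ ⊕ (Fin m ⊕ Fin m) → F) × F × F where
  toFun v := (fun i => v (Sum.map id (Sum.map Fin.castSucc Fin.castSucc) i),
    v (Sum.inr (Sum.inl (Fin.last m))), v (Sum.inr (Sum.inr (Fin.last m))))
  invFun w := Sum.elim (fun k => w.1 (Sum.inl k))
    (Sum.elim (Fin.lastCases w.2.1 (fun j => w.1 (Sum.inr (Sum.inl j))))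
      (Fin.lastCases w.2.2 (fun j => w.1 (Sum.inr (Sum.inr j)))))
  map_add' v w := rfl
  map_smul' c v := rfl
  left_inv v := by
    funext i
    rcases i with k | i | i
    · rfl
    · refine Fin.lastCases ?_ (fun j => ?_) i
      · simp
      · simp
    · refine Fin.lastCases ?_ (fun j => ?_) i
      · simp
      · simp
  right_inv w := by
    refine Prod.ext ?_ (Prod.ext ?_ ?_)
    · funext i
      rcases i with k | i | i
      · rfl
      · simp
      · simp
    · simp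
    · simp

theorem qGen_succ (Q₀ : QuadraticForm F (κ → F)) (m : ℕ)
    (v : κ ⊕ (Fin (m + 1) ⊕ Fin (m + 1)) → F) :
    qGen Q₀ (m + 1) v = hypExt (qGen Q₀ m) (splitLast F κ m v) := by
  rw [hypExt_apply, qGen_apply, qGen_apply, Fin.sum_univ_castSucc, add_assoc]
  rfl

/-- Rank zero: only the core remains. -/
def dropZero (F : Type*) [Field F] (κ : Type*) : (κ ⊕ (Fin 0 ⊕ Fin 0) → F) ≃ₗ[F] (κ → F) :=
  LinearEquiv.funCongrLeft F F (Equiv.sumEmpty κ (Fin 0 ⊕ Fin 0)).symm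

theorem qGen_zero (Q₀ : QuadraticForm F (κ → F)) (v : κ ⊕ (Fin 0 ⊕ Fin 0) → F) :
    qGen Q₀ 0 v = Q₀ (dropZero F κ v) := by
  rw [qGen_apply]
  simp only [Finset.univ_eq_empty, Finset.sum_empty, add_zero]
  rfl

theorem nondeg_qGen (Q₀ : QuadraticForm F (κ → F))
    (hQ₀ : (QuadraticMap.polarBilin Q₀).Nondegenerate) (m : ℕ) :
    (QuadraticMap.polarBilin (qGen Q₀ m)).Nondegenerate := by
  induction m with
  | zero => exact nondeg_congr Q₀ (qGen Q₀ 0) (dropZero F κ) (qGen_zero Q₀) hQ₀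
  | succ m ih =>
    exact nondeg_congr (hypExt (qGen Q₀ m)) (qGen Q₀ (m + 1)) (splitLast F κ m) (qGen_succ Q₀ m)
      (nondeg_hypExt _ ih)

theorem zeros_qGen_zero (Q₀ : QuadraticForm F (κ → F)) : zeros (qGen Q₀ 0) = zeros Q₀ :=
  zeros_congr Q₀ (qGen Q₀ 0) (dropZero F κ) (qGen_zero Q₀)

theorem isoCard_qGen_zero (Q₀ : QuadraticForm F (κ → F)) : isoCard (qGen Q₀ 0) = isoCard Q₀ :=
  isoCard_congr Q₀ (qGen Q₀ 0) (dropZero F κ) (qGen_zero Q₀)

end Gen

section Tower

variable {F : Type*} [Field F] [Fintype F] {κ : Type*} [Fintype κ] [DecidableEq κ]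

omit [Field F] in
theorem card_space (m : ℕ) :
    Fintype.card (κ ⊕ (Fin m ⊕ Fin m) → F) = Fintype.card F ^ (Fintype.card κ + 2 * m) := by
  rw [Fintype.card_fun, Fintype.card_sum, Fintype.card_sum, Fintype.card_fin, two_mul]

theorem zeros_qGen_succ (Q₀ : QuadraticForm F (κ → F)) (m : ℕ) :
    zeros (qGen Q₀ (m + 1)) = Fintype.card F * zeros (qGen Q₀ m)
      + (Fintype.card F - 1) * Fintype.card F ^ (Fintype.card κ + 2 * m) := by
  rw [zeros_congr (hypExt (qGen Q₀ m)) (qGen Q₀ (m + 1)) (splitLast F κ m) (qGen_succ Q₀ m),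
    zeros_hypExt, card_space]

theorem isoCard_qGen_succ (Q₀ : QuadraticForm F (κ → F))
    (hQ₀ : (QuadraticMap.polarBilin Q₀).Nondegenerate) (m : ℕ) :
    isoCard (qGen Q₀ (m + 1)) = (zeros (qGen Q₀ (m + 1)) - 1)
      * Fintype.card F ^ (Fintype.card κ + 2 * m) * isoCard (qGen Q₀ m) := by
  rw [isoCard_congr (hypExt (qGen Q₀ m)) (qGen Q₀ (m + 1)) (splitLast F κ m) (qGen_succ Q₀ m),
    isoCard_hypExt _ (nondeg_qGen Q₀ hQ₀ m), card_space,
    zeros_congr (hypExt (qGen Q₀ m)) (qGen Q₀ (m + 1)) (splitLast F κ m) (qGen_succ Q₀ m)]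

end Tower

section Mat

variable {F : Type*} [Field F] {ι : Type} [Fintype ι] [DecidableEq ι]

/-- The matrix isometry group has the order of the abstract isometry group. -/
theorem card_isometryGroup_eq (Q₀ : (ι → F) → F) (Q : QuadraticForm F (ι → F))
    (h : ∀ v, Q v = Q₀ v) : Nat.card (Cfsg.isometryGroup F Q₀) = isoCard Q := by
  let e : Matrix.GeneralLinearGroup ι F ≃* ((ι → F) ≃ₗ[F] (ι → F)) :=
    Matrix.GeneralLinearGroup.toLin.trans (LinearMap.GeneralLinearGroup.generalLinearEquiv F (ι → F))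
  have he : ∀ (g : Matrix.GeneralLinearGroup ι F) (v : ι → F),
      e g v = (g : Matrix ι ι F).mulVec v := fun g v => rfl
  refine Nat.card_congr (e.toEquiv.subtypeEquiv fun g => ?_)
  show (∀ u _v : ι → F, Q₀ ((g : Matrix ι ι F).mulVec u) = Q₀ u) ↔ ∀ v, Q (e g v) = Q v
  constructor
  · intro hg v
    rw [he, h, h, hg v v]
  · intro hg u _
    have := hg u
    rw [he, h, h] at this
    exact this

omit [Fintype ι] [DecidableEq ι] in
/-- Reindexing the coordinates. -/
theorem isoCard_reindex {ι' : Type*} (e : ι ≃ ι') (Q : QuadraticForm F (ι → F))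
    (Q' : QuadraticForm F (ι' → F)) (h : ∀ v : ι → F, Q v = Q' (fun j => v (e.symm j))) :
    isoCard Q = isoCard Q' :=
  isoCard_congr Q' Q (LinearEquiv.funCongrLeft F F e.symm) h

end Mat

end Cfsg.Agent.Lib.Helper43
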