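import Mathlib
import Cfsg.Prelude.Def_Classical
import Cfsg.Agent.Lib.Helper43.OrthTower

/-!
# Orders of the orthogonal groups `GO^+_{2m}(q)` and `GO_{2m+1}(q)`

Closed forms for the tower recursions of `OrthTower`, the base cases, and the resulting orders.
-/

set_option autoImplicit false

namespace Cfsg.Agent.Lib.Helper43

open Module

section Arith

theorem cast_pow_sub_one (q k : ℕ) (hq : 1 ≤ q) : ((q ^ k - 1 : ℕ) : ℤ) = (q : ℤ) ^ k - 1 := by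
  rw [Nat.cast_sub (Nat.one_le_pow _ _ hq)]
  push_cast
  ring

theorem sq_sub_one_nat (q k : ℕ) (hq : 1 ≤ q) : (q ^ k + 1) * (q ^ k - 1) = q ^ (2 * k) - 1 := by
  zify
  rw [cast_pow_sub_one q k hq, cast_pow_sub_one q (2 * k) hq]
  ring

/-- Zeros of the plus-type tower. -/
theorem plus_Z (q : ℕ) (hq : 1 ≤ q) (Z : ℕ → ℕ) (h0 : Z 0 = 1)
    (hZ : ∀ m, Z (m + 1) = q * Z m + (q - 1) * q ^ (0 + 2 * m)) :
    ∀ m, (q : ℤ) * Z m = (q : ℤ) ^ (2 * m) + (q : ℤ) ^ m * ((q : ℤ) - 1) := by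
  intro m
  induction m with
  | zero => rw [h0]; simp
  | succ m ih =>
    rw [hZ m]
    push_cast [Nat.cast_sub hq]
    rw [zero_add, mul_add, ih]
    ring

theorem plus_Zsub (q : ℕ) (hq : 1 ≤ q) (Z : ℕ → ℕ) (h0 : Z 0 = 1)
    (hZ : ∀ m, Z (m + 1) = q * Z m + (q - 1) * q ^ (0 + 2 * m)) (m : ℕ) :
    Z (m + 1) - 1 = (q ^ (m + 1) - 1) * (q ^ m + 1) := by
  have h1 := plus_Z q hq Z h0 hZ (m + 1)
  have hq0 : (q : ℤ) ≠ 0 := by exact_mod_cast (by omega : q ≠ 0)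
  have h2 : (Z (m + 1) : ℤ) = ((q : ℤ) ^ (m + 1) - 1) * ((q : ℤ) ^ m + 1) + 1 := by
    apply mul_left_cancel₀ hq0
    rw [h1]
    ring
  have h3 : 1 ≤ Z (m + 1) := by
    have : (0 : ℤ) ≤ ((q : ℤ) ^ (m + 1) - 1) * ((q : ℤ) ^ m + 1) := by
      apply mul_nonneg
      · have : (1 : ℤ) ≤ (q : ℤ) ^ (m + 1) := one_le_pow₀ (by exact_mod_cast hq)
        linarith
      · positivity
    have h4 : (1 : ℤ) ≤ Z (m + 1) := by linarith
    exact_mod_cast h4
  zify [h3]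
  rw [cast_pow_sub_one q (m + 1) hq, h2]
  ring

theorem plus_I (q : ℕ) (hq : 1 ≤ q) (Z : ℕ → ℕ) (h0 : Z 0 = 1)
    (hZ : ∀ m, Z (m + 1) = q * Z m + (q - 1) * q ^ (0 + 2 * m)) (I : ℕ → ℕ) (hI0 : I 0 = 1)
    (hI : ∀ m, I (m + 1) = (Z (m + 1) - 1) * q ^ (0 + 2 * m) * I m) (m : ℕ) :
    I (m + 1) = 2 * q ^ ((m + 1) * m) * (q ^ (m + 1) - 1)
      * ∏ i ∈ Finset.range m, (q ^ (2 * (i + 1)) - 1) := by
  induction m with
  | zero =>
    rw [hI 0, hI0, plus_Zsub q hq Z h0 hZ 0]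
    simp
    ring
  | succ m ih =>
    rw [hI (m + 1), ih, plus_Zsub q hq Z h0 hZ (m + 1), Finset.prod_range_succ,
      ← sq_sub_one_nat q (m + 1) hq]
    ring

/-- Zeros and isometries of the odd tower. -/
theorem odd_Z (q : ℕ) (hq : 1 ≤ q) (Z : ℕ → ℕ) (h0 : Z 0 = 1)
    (hZ : ∀ m, Z (m + 1) = q * Z m + (q - 1) * q ^ (1 + 2 * m)) :
    ∀ m, Z m = q ^ (2 * m) := by
  intro m
  induction m with
  | zero => rw [h0]; simp
  | succ m ih =>
    rw [hZ m, ih]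
    zify [hq]
    ring

theorem odd_I (q : ℕ) (hq : 1 ≤ q) (Z : ℕ → ℕ) (h0 : Z 0 = 1)
    (hZ : ∀ m, Z (m + 1) = q * Z m + (q - 1) * q ^ (1 + 2 * m)) (I : ℕ → ℕ) (hI0 : I 0 = 2)
    (hI : ∀ m, I (m + 1) = (Z (m + 1) - 1) * q ^ (1 + 2 * m) * I m) (m : ℕ) :
    I m = 2 * q ^ (m ^ 2) * ∏ i ∈ Finset.range m, (q ^ (2 * (i + 1)) - 1) := by
  induction m with
  | zero => rw [hI0]; simp
  | succ m ih =>
    rw [hI m, ih, odd_Z q hq Z h0 hZ (m + 1), Finset.prod_range_succ]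
    ring

/-- Zeros and isometries of the minus tower. -/
theorem minus_Z (q : ℕ) (hq : 1 ≤ q) (Z : ℕ → ℕ) (h0 : Z 0 = 1)
    (hZ : ∀ m, Z (m + 1) = q * Z m + (q - 1) * q ^ (2 + 2 * m)) :
    ∀ m, (q : ℤ) * Z m = (q : ℤ) ^ (2 * m + 2) - (q : ℤ) ^ (m + 1) * ((q : ℤ) - 1) := by
  intro m
  induction m with
  | zero => rw [h0]; simp; ring
  | succ m ih =>
    rw [hZ m]
    push_cast [Nat.cast_sub hq]
    rw [mul_add, ih]
    ring

theorem minus_Zsub (q : ℕ) (hq : 1 ≤ q) (Z : ℕ → ℕ) (h0 : Z 0 = 1)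
    (hZ : ∀ m, Z (m + 1) = q * Z m + (q - 1) * q ^ (2 + 2 * m)) (m : ℕ) :
    Z (m + 1) - 1 = (q ^ (m + 2) + 1) * (q ^ (m + 1) - 1) := by
  have h1 := minus_Z q hq Z h0 hZ (m + 1)
  have hq0 : (q : ℤ) ≠ 0 := by exact_mod_cast (by omega : q ≠ 0)
  have h2 : (Z (m + 1) : ℤ) = ((q : ℤ) ^ (m + 2) + 1) * ((q : ℤ) ^ (m + 1) - 1) + 1 := by
    apply mul_left_cancel₀ hq0
    rw [h1]
    ring
  have h3 : 1 ≤ Z (m + 1) := by
    have : (0 : ℤ) ≤ ((q : ℤ) ^ (m + 2) + 1) * ((q : ℤ) ^ (m + 1) - 1) := by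
      apply mul_nonneg
      · positivity
      · have : (1 : ℤ) ≤ (q : ℤ) ^ (m + 1) := one_le_pow₀ (by exact_mod_cast hq)
        linarith
    have h4 : (1 : ℤ) ≤ Z (m + 1) := by linarith
    exact_mod_cast h4
  zify [h3]
  rw [cast_pow_sub_one q (m + 1) hq, h2]
  ring

theorem minus_I (q : ℕ) (hq : 1 ≤ q) (Z : ℕ → ℕ) (h0 : Z 0 = 1)
    (hZ : ∀ m, Z (m + 1) = q * Z m + (q - 1) * q ^ (2 + 2 * m)) (I : ℕ → ℕ)
    (hI0 : I 0 = 2 * (q + 1))
    (hI : ∀ m, I (m + 1) = (Z (m + 1) - 1) * q ^ (2 + 2 * m) * I m) (m : ℕ) :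
    I m = 2 * q ^ ((m + 1) * m) * (q ^ (m + 1) + 1)
      * ∏ i ∈ Finset.range m, (q ^ (2 * (i + 1)) - 1) := by
  induction m with
  | zero => rw [hI0]; simp
  | succ m ih =>
    rw [hI m, ih, minus_Zsub q hq Z h0 hZ m, Finset.prod_range_succ,
      ← sq_sub_one_nat q (m + 1) hq]
    ring


end Arith

section PlusBase

variable {F : Type*} [Field F]

theorem nondeg_empty :
    (QuadraticMap.polarBilin (0 : QuadraticForm F (Empty → F))).Nondegenerate :=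
  ⟨fun _ _ => Subsingleton.elim _ _, fun _ _ => Subsingleton.elim _ _⟩

theorem zeros_empty : zeros (0 : QuadraticForm F (Empty → F)) = 1 := by
  rw [zeros]
  exact Nat.card_eq_one_iff_unique.mpr
    ⟨⟨fun a b => Subtype.ext (Subsingleton.elim _ _)⟩, ⟨⟨0, rfl⟩⟩⟩

theorem isoCard_empty : isoCard (0 : QuadraticForm F (Empty → F)) = 1 := by
  rw [isoCard]
  exact Nat.card_eq_one_iff_unique.mpr
    ⟨⟨fun a b => Subtype.ext (LinearEquiv.ext fun v => Subsingleton.elim _ _)⟩, ⟨1⟩⟩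

/-- The plus-type form as a quadratic form. -/
noncomputable def qPlus (F : Type*) [Field F] (m : ℕ) : QuadraticForm F (Fin m ⊕ Fin m → F) :=
  (qGen (0 : QuadraticForm F (Empty → F)) m).comp
    (LinearEquiv.funCongrLeft F F (Equiv.emptySum Empty (Fin m ⊕ Fin m))).toLinearMap

theorem qPlus_apply (m : ℕ) (v : Fin m ⊕ Fin m → F) : qPlus F m v = Cfsg.quadFormPlus m F v := by
  show qGen (0 : QuadraticForm F (Empty → F)) m _ = _
  rw [qGen_apply]
  simp only [_root_.zero_apply, zero_add]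
  rfl

theorem isoCard_qPlus (m : ℕ) :
    isoCard (qPlus F m) = isoCard (qGen (0 : QuadraticForm F (Empty → F)) m) :=
  isoCard_congr _ _ (LinearEquiv.funCongrLeft F F (Equiv.emptySum Empty (Fin m ⊕ Fin m)))
    (fun _ => rfl)

theorem zeros_qPlus (m : ℕ) :
    zeros (qPlus F m) = zeros (qGen (0 : QuadraticForm F (Empty → F)) m) :=
  zeros_congr _ _ (LinearEquiv.funCongrLeft F F (Equiv.emptySum Empty (Fin m ⊕ Fin m)))
    (fun _ => rfl)

end PlusBase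

section PlusOrder

variable {F : Type*} [Field F] [Fintype F]

/-- `|GO^+_{2m+2}(q)|`, abstractly. -/
theorem isoCard_plusTower (m : ℕ) :
    isoCard (qGen (0 : QuadraticForm F (Empty → F)) (m + 1))
      = 2 * Fintype.card F ^ ((m + 1) * m) * (Fintype.card F ^ (m + 1) - 1)
        * ∏ i ∈ Finset.range m, (Fintype.card F ^ (2 * (i + 1)) - 1) := by
  refine plus_I (Fintype.card F) Fintype.card_pos
    (fun m => zeros (qGen (0 : QuadraticForm F (Empty → F)) m)) ?_ ?_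
    (fun m => isoCard (qGen (0 : QuadraticForm F (Empty → F)) m)) ?_ ?_ m
  · show zeros (qGen (0 : QuadraticForm F (Empty → F)) 0) = 1
    rw [zeros_qGen_zero, zeros_empty]
  · intro m
    have := zeros_qGen_succ (0 : QuadraticForm F (Empty → F)) m
    rw [(Fintype.card_eq_zero : Fintype.card Empty = 0)] at this
    exact this
  · show isoCard (qGen (0 : QuadraticForm F (Empty → F)) 0) = 1
    rw [isoCard_qGen_zero, isoCard_empty]
  · intro m
    have := isoCard_qGen_succ (0 : QuadraticForm F (Empty → F)) nondeg_empty m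
    rw [(Fintype.card_eq_zero : Fintype.card Empty = 0)] at this
    exact this

end PlusOrder

end Cfsg.Agent.Lib.Helper43
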