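import Mathlib
import Cfsg.Prelude.Def_Classical
import Cfsg.Agent.Lib.Helper43.OrthOrders
import Cfsg.Agent.Lib.Helper43.OrthAniso

/-!
# The order of `GO^-_{2m}(q)`

The anisotropic binary form `z₁² + a z₁ z₂ + b z₂²` has isometry group of order `2 (q + 1)`
(`isoCard_qBin`), and the tower over it gives `|GO^-_{2m}(q)|`.
-/

set_option autoImplicit false

namespace Cfsg.Agent.Lib.Helper43

open Module

section Bin

variable {F : Type*} [Field F]

/-- The binary form `z₁² + a z₁ z₂ + b z₂²`. -/
noncomputable def qBin (a b : F) : QuadraticForm F (Fin 2 → F) :=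
  QuadraticMap.linMulLin (LinearMap.proj 0) (LinearMap.proj 0)
    + a • QuadraticMap.linMulLin (LinearMap.proj 0) (LinearMap.proj 1)
    + b • QuadraticMap.linMulLin (LinearMap.proj 1) (LinearMap.proj 1)

theorem qBin_apply (a b : F) (v : Fin 2 → F) :
    qBin a b v = v 0 * v 0 + a * (v 0 * v 1) + b * (v 1 * v 1) := rfl

theorem polar_qBin (a b : F) (v w : Fin 2 → F) :
    QuadraticMap.polar (qBin a b) v w
      = 2 * v 0 * w 0 + a * (v 0 * w 1 + v 1 * w 0) + 2 * b * v 1 * w 1 := by
  rw [QuadraticMap.polar, qBin_apply, qBin_apply, qBin_apply]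
  simp only [Pi.add_apply]
  ring

/-- The discriminant of an anisotropic binary form over a finite field does not vanish. -/
theorem disc_ne_zero [Finite F] (a b : F)
    (hab : ∀ z₁ z₂ : F, z₁ ^ 2 + a * z₁ * z₂ + b * z₂ ^ 2 = 0 → z₁ = 0 ∧ z₂ = 0) :
    4 * b - a * a ≠ 0 := by
  intro hD
  by_cases h2 : (2 : F) = 0
  · have h4 : (4 : F) = 0 := by linear_combination (2 : F) * h2
    have ha : a = 0 := by
      have : a * a = 0 := by linear_combination -hD + b * h4
      exact mul_self_eq_zero.mp this
    have hinj : Function.Injective (fun x : F => x * x) := by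
      intro x y hxy
      have hxy' : x * x = y * y := hxy
      have : (x - y) * (x - y) = 0 := by linear_combination hxy' + (y * y - x * y) * h2
      exact sub_eq_zero.mp (mul_self_eq_zero.mp this)
    obtain ⟨c, hc⟩ := (Finite.injective_iff_surjective.mp hinj) b
    have hc' : c * c = b := hc
    have := hab c 1 (by rw [ha]; linear_combination hc' + b * h2)
    exact one_ne_zero this.2
  · have := hab (-a) 2 (by linear_combination hD)
    exact h2 this.2

theorem nondeg_qBin (a b : F) (hD : 4 * b - a * a ≠ 0) :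
    (QuadraticMap.polarBilin (qBin a b)).Nondegenerate := by
  apply nondeg_of_left
  intro v hv
  have h1 := hv ![1, 0]
  have h2 := hv ![0, 1]
  rw [polar_qBin] at h1 h2
  simp only [Matrix.cons_val_zero, Matrix.cons_val_one] at h1 h2
  have h3 : (4 * b - a * a) * v 0 = 0 := by linear_combination (2 * b) * h1 - a * h2
  have h4 : (4 * b - a * a) * v 1 = 0 := by linear_combination 2 * h2 - a * h1
  funext i
  fin_cases i
  · exact (mul_eq_zero.mp h3).resolve_left hD
  · exact (mul_eq_zero.mp h4).resolve_left hD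

theorem zeros_qBin (a b : F)
    (hab : ∀ z₁ z₂ : F, z₁ ^ 2 + a * z₁ * z₂ + b * z₂ ^ 2 = 0 → z₁ = 0 ∧ z₂ = 0) :
    zeros (qBin a b) = 1 := by
  rw [zeros]
  have key : ∀ v : Fin 2 → F, qBin a b v = 0 → v = 0 := by
    intro v hv
    rw [qBin_apply] at hv
    have := hab (v 0) (v 1) (by linear_combination hv)
    funext i
    fin_cases i
    · exact this.1
    · exact this.2
  exact Nat.card_eq_one_iff_unique.mpr
    ⟨⟨fun x y => Subtype.ext ((key x.1 x.2).trans (key y.1 y.2).symm)⟩, ⟨⟨0, map_zero _⟩⟩⟩

/-- The reflection fixing `e₁`. -/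
def binRefl (a : F) : (Fin 2 → F) ≃ₗ[F] (Fin 2 → F) :=
  LinearEquiv.ofInvolutive
    { toFun := fun w => ![w 0 + a * w 1, - w 1]
      map_add' := by
        intro x y
        funext i
        fin_cases i
        · simp; ring
        · simp; ring
      map_smul' := by
        intro c x
        funext i
        fin_cases i
        · simp; ring
        · simp }
    (by
      intro w
      funext i
      fin_cases i
      · simp
      · simp)

theorem binRefl_apply (a : F) (w : Fin 2 → F) : binRefl a w = ![w 0 + a * w 1, - w 1] := rfl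

theorem qBin_binRefl (a b : F) (w : Fin 2 → F) : qBin a b (binRefl a w) = qBin a b w := by
  rw [binRefl_apply, qBin_apply, qBin_apply]
  simp only [Matrix.cons_val_zero, Matrix.cons_val_one]
  ring

theorem fin2_decomp (w : Fin 2 → F) : w = w 0 • ![1, 0] + w 1 • ![0, 1] := by
  funext i
  fin_cases i
  · simp
  · simp

/-- An isometry fixing `e₁` is the identity or the reflection. -/
theorem stab_cases (a b : F) (hD : 4 * b - a * a ≠ 0) (g : (Fin 2 → F) ≃ₗ[F] (Fin 2 → F))
    (hg : ∀ v, qBin a b (g v) = qBin a b v) (hge : g ![1, 0] = ![1, 0]) :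
    g = LinearEquiv.refl F (Fin 2 → F) ∨ g = binRefl a := by
  have hE1 : 2 * g ![0, 1] 0 + a * g ![0, 1] 1 = a := by
    have h1 := polar_map (qBin a b) g hg ![1, 0] ![0, 1]
    rw [hge, polar_qBin, polar_qBin] at h1
    simp only [Matrix.cons_val_zero, Matrix.cons_val_one] at h1
    linear_combination h1
  have hE2 : g ![0, 1] 0 * g ![0, 1] 0 + a * (g ![0, 1] 0 * g ![0, 1] 1)
      + b * (g ![0, 1] 1 * g ![0, 1] 1) = b := by
    have h1 := hg ![0, 1]
    rw [qBin_apply, qBin_apply] at h1
    simp only [Matrix.cons_val_zero, Matrix.cons_val_one] at h1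
    linear_combination h1
  have hcases : (g ![0, 1] 0 = 0 ∧ g ![0, 1] 1 = 1) ∨ (g ![0, 1] 0 = a ∧ g ![0, 1] 1 = -1) := by
    generalize g ![0, 1] 0 = x at hE1 hE2
    generalize g ![0, 1] 1 = y at hE1 hE2
    by_cases ha : a = 0
    · subst ha
      have hb : b ≠ 0 := by
        rintro rfl
        apply hD
        ring
      have h2 : (2 : F) ≠ 0 := by
        intro h2
        apply hD
        linear_combination (2 * b) * h2
      have hx : x = 0 := by
        have : 2 * x = 0 := by linear_combination hE1
        exact (mul_eq_zero.mp this).resolve_left h2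
      have hy : y * y = 1 := by
        have : b * (y * y - 1) = 0 := by rw [hx] at hE2; linear_combination hE2
        have := (mul_eq_zero.mp this).resolve_left hb
        linear_combination this
      rcases mul_self_eq_one_iff.mp hy with h | h
      · exact Or.inl ⟨hx, h⟩
      · exact Or.inr ⟨hx, h⟩
    · have hkey : (4 * b - a * a) * (x * (x - a)) = 0 := by
        linear_combination (a * a) * hE2 + (-a * b * y - a * a * x + 2 * b * x - a * b) * hE1
      rcases mul_eq_zero.mp ((mul_eq_zero.mp hkey).resolve_left hD) with hx | hx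
      · left
        refine ⟨hx, ?_⟩
        have : a * (y - 1) = 0 := by rw [hx] at hE1; linear_combination hE1
        have := (mul_eq_zero.mp this).resolve_left ha
        linear_combination this
      · right
        have hx' : x = a := sub_eq_zero.mp hx
        refine ⟨hx', ?_⟩
        have : a * (y + 1) = 0 := by rw [hx'] at hE1; linear_combination hE1
        have := (mul_eq_zero.mp this).resolve_left ha
        linear_combination this
  rcases hcases with ⟨h0, h1⟩ | ⟨h0, h1⟩
  · left
    apply LinearEquiv.ext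
    intro w
    have hge2 : g ![0, 1] = ![0, 1] := by
      funext i
      fin_cases i
      · exact h0
      · exact h1
    conv_lhs => rw [fin2_decomp w, map_add, map_smul, map_smul, hge, hge2]
    exact (fin2_decomp w).symm
  · right
    apply LinearEquiv.ext
    intro w
    have hge2 : g ![0, 1] = ![a, -1] := by
      funext i
      fin_cases i
      · exact h0
      · exact h1
    conv_lhs => rw [fin2_decomp w, map_add, map_smul, map_smul, hge, hge2]
    rw [binRefl_apply]
    funext i
    fin_cases i
    · simp; ring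
    · simp

theorem binRefl_ne (a b : F) (hD : 4 * b - a * a ≠ 0) :
    binRefl a ≠ LinearEquiv.refl F (Fin 2 → F) := by
  intro h
  have h1 := LinearEquiv.congr_fun h ![0, 1]
  rw [binRefl_apply] at h1
  have h0 := congrFun h1 0
  have h1' := congrFun h1 1
  simp only [Matrix.cons_val_zero, Matrix.cons_val_one, LinearEquiv.refl_apply] at h0 h1'
  apply hD
  have h2 : (2 : F) = 0 := by linear_combination -h1'
  have ha : a = 0 := by linear_combination h0
  rw [ha]
  linear_combination (2 * b) * h2

theorem card_stab_bin (a b : F) (hD : 4 * b - a * a ≠ 0) :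
    Nat.card (MulAction.stabilizer (isoGroup (qBin a b)) (![1, 0] : Fin 2 → F)) = 2 := by
  rw [Nat.card_eq_two_iff]
  refine ⟨1, ⟨⟨binRefl a, qBin_binRefl a b⟩, ?_⟩, ?_, ?_⟩
  · rw [MulAction.mem_stabilizer_iff]
    show binRefl a ![1, 0] = ![1, 0]
    rw [binRefl_apply]
    funext i
    fin_cases i
    · simp
    · simp
  · intro h
    have h1 : LinearEquiv.refl F (Fin 2 → F) = binRefl a :=
      congrArg (fun x : MulAction.stabilizer (isoGroup (qBin a b)) (![1, 0] : Fin 2 → F) =>
        (x.1.1 : (Fin 2 → F) ≃ₗ[F] (Fin 2 → F))) h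
    exact binRefl_ne a b hD h1.symm
  · ext g
    simp only [Set.mem_insert_iff, Set.mem_singleton_iff, Set.mem_univ, iff_true]
    have hg : g.1.1 ![1, 0] = ![1, 0] := MulAction.mem_stabilizer_iff.mp g.2
    rcases stab_cases a b hD g.1.1 g.1.2 hg with h | h
    · left
      exact Subtype.ext (Subtype.ext h)
    · right
      exact Subtype.ext (Subtype.ext h)

end Bin

section BinOrder

variable {F : Type*} [Field F] [Fintype F]

open Classical in
/-- The isometry group of an anisotropic binary form has order `2 (q + 1)`. -/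
theorem isoCard_qBin (a b : F)
    (hab : ∀ z₁ z₂ : F, z₁ ^ 2 + a * z₁ * z₂ + b * z₂ ^ 2 = 0 → z₁ = 0 ∧ z₂ = 0) :
    isoCard (qBin a b) = 2 * (Fintype.card F + 1) := by
  have hD := disc_ne_zero a b hab
  have hnd := nondeg_qBin a b hD
  have h1 : isoCard (qBin a b)
      = Nat.card (MulAction.orbit (isoGroup (qBin a b)) (![1, 0] : Fin 2 → F))
        * Nat.card (MulAction.stabilizer (isoGroup (qBin a b)) (![1, 0] : Fin 2 → F)) := by
    rw [← Nat.card_prod]
    exact (Nat.card_congr (MulAction.orbitProdStabilizerEquivGroup _ _)).symm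
  have he : qBin a b ![1, 0] = 1 := by
    rw [qBin_apply]
    simp
  have horb : MulAction.orbit (isoGroup (qBin a b)) (![1, 0] : Fin 2 → F)
      = {u | qBin a b u = 1} := by
    ext u
    constructor
    · rintro ⟨g, rfl⟩
      show qBin a b (g.1 ![1, 0]) = 1
      rw [g.2, he]
    · intro hu
      obtain ⟨g, hgQ, hg⟩ := exists_iso_map_vec (qBin a b) hnd ![1, 0] u
        (by rw [he]; exact one_ne_zero) (by rw [he]; exact hu)
      exact ⟨⟨g, hgQ⟩, hg⟩
  have hcard : Nat.card (MulAction.orbit (isoGroup (qBin a b)) (![1, 0] : Fin 2 → F))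
      = Fintype.card F + 1 := by
    rw [horb]
    have hV : Fintype.card (Fin 2 → F) = Fintype.card F * Fintype.card F := by
      rw [Fintype.card_fun, Fintype.card_fin, pow_two]
    rw [← card_level_aniso (qBin a b) hnd hV (zeros_qBin a b hab) 1 one_ne_zero]
    show Nat.card {u : Fin 2 → F // qBin a b u = 1} = _
    rw [Nat.card_eq_fintype_card, Fintype.card_subtype]
  rw [h1, hcard, card_stab_bin a b hD, mul_comm]

/-- `|GO^-_{2m+2}(q)|`, abstractly. -/
theorem isoCard_minusTower (a b : F)
    (hab : ∀ z₁ z₂ : F, z₁ ^ 2 + a * z₁ * z₂ + b * z₂ ^ 2 = 0 → z₁ = 0 ∧ z₂ = 0) (m : ℕ) :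
    isoCard (qGen (qBin a b) m)
      = 2 * Fintype.card F ^ ((m + 1) * m) * (Fintype.card F ^ (m + 1) + 1)
        * ∏ i ∈ Finset.range m, (Fintype.card F ^ (2 * (i + 1)) - 1) := by
  refine minus_I (Fintype.card F) Fintype.card_pos
    (fun m => zeros (qGen (qBin a b) m)) ?_ ?_
    (fun m => isoCard (qGen (qBin a b) m)) ?_ ?_ m
  · show zeros (qGen (qBin a b) 0) = 1
    rw [zeros_qGen_zero, zeros_qBin a b hab]
  · intro m
    have := zeros_qGen_succ (qBin a b) m
    rw [Fintype.card_fin] at this
    exact this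
  · show isoCard (qGen (qBin a b) 0) = 2 * (Fintype.card F + 1)
    rw [isoCard_qGen_zero, isoCard_qBin a b hab]
  · intro m
    have := isoCard_qGen_succ (qBin a b) (nondeg_qBin a b (disc_ne_zero a b hab)) m
    rw [Fintype.card_fin] at this
    exact this

/-- The minus-type form as a quadratic form. -/
noncomputable def qMinus (a b : F) (m : ℕ) : QuadraticForm F ((Fin m ⊕ Fin m) ⊕ Fin 2 → F) :=
  (qGen (qBin a b) m).comp
    (LinearEquiv.funCongrLeft F F (Equiv.sumComm (Fin 2) (Fin m ⊕ Fin m))).toLinearMap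

omit [Fintype F] in
theorem qMinus_apply (a b : F) (m : ℕ) (v : (Fin m ⊕ Fin m) ⊕ Fin 2 → F) :
    qMinus a b m v = Cfsg.quadFormMinus m F a b v := by
  show qGen (qBin a b) m _ = _
  rw [qGen_apply, qBin_apply, Cfsg.quadFormMinus]
  show v (Sum.inr 0) * v (Sum.inr 0) + a * (v (Sum.inr 0) * v (Sum.inr 1))
      + b * (v (Sum.inr 1) * v (Sum.inr 1))
      + ∑ i : Fin m, v (Sum.inl (Sum.inl i)) * v (Sum.inl (Sum.inr i)) = _
  ring

omit [Fintype F] in
theorem isoCard_qMinus (a b : F) (m : ℕ) :
    isoCard (qMinus a b m) = isoCard (qGen (qBin a b) m) :=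
  isoCard_congr _ _ (LinearEquiv.funCongrLeft F F (Equiv.sumComm (Fin 2) (Fin m ⊕ Fin m)))
    (fun _ => rfl)

end BinOrder

end Cfsg.Agent.Lib.Helper43
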