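import Mathlib
import Cfsg.Prelude.Def_Classical
import Cfsg.Agent.Lib.Helper43.OrthOrders

/-!
# The order of `GO_{2m+1}(q)`, `q` odd
-/

set_option autoImplicit false

namespace Cfsg.Agent.Lib.Helper43

open Module

section OddBase

variable {F : Type*} [Field F]

/-- The form `x²` on a line. -/
noncomputable def qSq (F : Type*) [Field F] : QuadraticForm F (Unit → F) :=
  QuadraticMap.linMulLin (LinearMap.proj ()) (LinearMap.proj ())

theorem qSq_apply (v : Unit → F) : qSq F v = v () * v () := rfl

theorem nondeg_qSq (h2 : (2 : F) ≠ 0) : (QuadraticMap.polarBilin (qSq F)).Nondegenerate := by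
  apply nondeg_of_left
  intro v hv
  have h1 := hv (fun _ => 1)
  rw [QuadraticMap.polar, qSq_apply, qSq_apply, qSq_apply] at h1
  simp only [Pi.add_apply] at h1
  have h3 : (2 : F) * v () = 0 := by linear_combination h1
  funext u
  cases u
  exact (mul_eq_zero.mp h3).resolve_left h2

theorem zeros_qSq : zeros (qSq F) = 1 := by
  rw [zeros]
  refine Nat.card_eq_one_iff_unique.mpr
    ⟨⟨fun a b => Subtype.ext ?_⟩, ⟨⟨0, by rw [qSq_apply]; simp⟩⟩⟩
  have ha : a.1 () = 0 := mul_self_eq_zero.mp a.2
  have hb : b.1 () = 0 := mul_self_eq_zero.mp b.2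
  funext u
  cases u
  rw [ha, hb]

theorem card_sq_eq_one (h2 : (2 : F) ≠ 0) : Nat.card {c : F // c * c = 1} = 2 := by
  rw [Nat.card_eq_two_iff]
  refine ⟨⟨1, by simp⟩, ⟨-1, by simp⟩, ?_, ?_⟩
  · intro h
    have h1 : (1 : F) = -1 := congrArg Subtype.val h
    apply h2
    linear_combination h1
  · ext c
    simp only [Set.mem_insert_iff, Set.mem_singleton_iff, Set.mem_univ, iff_true]
    rcases mul_self_eq_one_iff.mp c.2 with h | h
    · left; exact Subtype.ext h
    · right; exact Subtype.ext h

theorem isoCard_qSq (h2 : (2 : F) ≠ 0) : isoCard (qSq F) = 2 := by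
  rw [← card_sq_eq_one h2, isoCard]
  have hv : ∀ v : Unit → F, v = v () • (fun _ => (1 : F)) := by
    intro v
    funext u
    cases u
    simp
  have hg : ∀ (g : (Unit → F) ≃ₗ[F] (Unit → F)) (v : Unit → F),
      g v () = v () * g (fun _ => 1) () := by
    intro g v
    conv_lhs => rw [hv v, map_smul]
    rfl
  refine Nat.card_congr
    { toFun := fun g => ⟨g.1 (fun _ => 1) (), ?_⟩
      invFun := fun c => ⟨LinearEquiv.smulOfNeZero F (Unit → F) c.1 ?_, ?_⟩
      left_inv := ?_
      right_inv := ?_ }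
  · have := g.2 (fun _ => 1)
    rw [qSq_apply, qSq_apply] at this
    simpa using this
  · intro h0
    have := c.2
    rw [h0, zero_mul] at this
    exact zero_ne_one this
  · intro v
    show qSq F (c.1 • v) = qSq F v
    rw [qSq_apply, qSq_apply]
    show (c.1 * v ()) * (c.1 * v ()) = v () * v ()
    have := c.2
    linear_combination (v () * v ()) * this
  · intro g
    apply Subtype.ext
    apply LinearEquiv.ext
    intro v
    funext u
    cases u
    show g.1 (fun _ => 1) () * v () = g.1 v ()
    rw [hg g.1 v, mul_comm]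
  · intro c
    apply Subtype.ext
    show c.1 * 1 = c.1
    rw [mul_one]

end OddBase

section OddOrder

variable {F : Type*} [Field F] [Fintype F]

/-- `|GO_{2m+1}(q)|`, abstractly. -/
theorem isoCard_oddTower (h2 : (2 : F) ≠ 0) (m : ℕ) :
    isoCard (qGen (qSq F) m)
      = 2 * Fintype.card F ^ (m ^ 2)
        * ∏ i ∈ Finset.range m, (Fintype.card F ^ (2 * (i + 1)) - 1) := by
  refine odd_I (Fintype.card F) Fintype.card_pos
    (fun m => zeros (qGen (qSq F) m)) ?_ ?_
    (fun m => isoCard (qGen (qSq F) m)) ?_ ?_ m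
  · show zeros (qGen (qSq F) 0) = 1
    rw [zeros_qGen_zero, zeros_qSq]
  · intro m
    have := zeros_qGen_succ (qSq F) m
    rw [Fintype.card_unit] at this
    exact this
  · show isoCard (qGen (qSq F) 0) = 2
    rw [isoCard_qGen_zero, isoCard_qSq h2]
  · intro m
    have := isoCard_qGen_succ (qSq F) (nondeg_qSq h2) m
    rw [Fintype.card_unit] at this
    exact this

omit [Fintype F] in
theorem qGen_qSq_apply (m : ℕ) (v : Unit ⊕ (Fin m ⊕ Fin m) → F) :
    qGen (qSq F) m v = Cfsg.quadFormOdd m F v := by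
  rw [qGen_apply, qSq_apply, Cfsg.quadFormOdd, pow_two]

end OddOrder

end Cfsg.Agent.Lib.Helper43
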